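import Groth.Agent.HilbSam.Basic
import Groth.Agent.LenLib.Samuel
import Mathlib.RingTheory.KrullDimension.Regular
import Mathlib.RingTheory.Ideal.AssociatedPrime.Finiteness
import Mathlib.Algebra.Polynomial.Taylor

/-!
# The degree of the Hilbert–Samuel polynomial is the dimension
-/

universe u

noncomputable section

namespace Groth.Agent.HilbSam.Degree

open Filter Polynomial Groth.Agent.HilbSam.Poly Groth.Agent.LenLib Function
open scoped Pointwise

variable {A : Type u} [CommRing A] (I : Ideal A)

/-- The Hilbert–Samuel function. -/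
def L (N : Type u) [AddCommGroup N] [Module A N] (t : ℕ) : ℕ∞ :=
  Module.length A (N ⧸ (I ^ t • ⊤ : Submodule A N))

/-- Growth bound `O(t^k)`. -/
def Bd (N : Type u) [AddCommGroup N] [Module A N] (k : ℕ) : Prop :=
  ∃ C : ℕ, ∀ t, L I N t ≤ ((C * (t + 1) ^ k : ℕ) : ℕ∞)

variable {I}

theorem L_zero (N : Type u) [AddCommGroup N] [Module A N] : L I N 0 = 0 := by
  refine Module.length_eq_zero_iff.mpr ?_
  rw [Submodule.Quotient.subsingleton_iff, pow_zero, Ideal.one_eq_top, Submodule.top_smul]

theorem L_of_subsingleton (N : Type u) [AddCommGroup N] [Module A N] [Subsingleton N] (t : ℕ) :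
    L I N t = 0 :=
  Module.length_eq_zero_iff.mpr inferInstance

theorem L_congr {N N' : Type u} [AddCommGroup N] [Module A N] [AddCommGroup N'] [Module A N']
    (e : N ≃ₗ[A] N') (t : ℕ) : L I N t = L I N' t :=
  (Submodule.Quotient.equiv _ _ e (map_pow_smul_top I e.surjective t)).length_eq

section ses

variable {N₁ N₂ N₃ : Type u} [AddCommGroup N₁] [Module A N₁] [AddCommGroup N₂] [Module A N₂]
  [AddCommGroup N₃] [Module A N₃] {f : N₁ →ₗ[A] N₂} {g : N₂ →ₗ[A] N₃}

theorem L_eq_add (hg : Surjective g) (hfg : LinearMap.range f = LinearMap.ker g) (t : ℕ) :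
    L I N₂ t = Module.length A (N₁ ⧸ (I ^ t • (⊤ : Submodule A N₂)).comap f) + L I N₃ t := by
  rw [L, length_quot_eq_add hg hfg, map_pow_smul_top I hg]
  rfl

theorem L_le_add (hg : Surjective g) (hfg : LinearMap.range f = LinearMap.ker g) (t : ℕ) :
    L I N₂ t ≤ L I N₁ t + L I N₃ t := by
  rw [L_eq_add hg hfg]
  exact add_le_add_left (Module.length_le_of_surjective
    (Submodule.factor (Submodule.smul_top_le_comap_smul_top _ f)) (Submodule.factor_surjective _)) _

theorem exists_shift [IsNoetherianRing A] [Module.Finite A N₂] (hf : Injective f) :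
    ∃ c : ℕ, ∀ t, c ≤ t →
      L I N₁ (t - c) ≤ Module.length A (N₁ ⧸ (I ^ t • (⊤ : Submodule A N₂)).comap f) := by
  obtain ⟨c, hc⟩ := Ideal.exists_pow_inf_eq_pow_smul I (LinearMap.range f)
  refine ⟨c, fun t ht => ?_⟩
  have hle : (I ^ t • (⊤ : Submodule A N₂)).comap f ≤ I ^ (t - c) • ⊤ := by
    rw [← Submodule.comap_map_eq_of_injective hf (I ^ (t - c) • (⊤ : Submodule A N₁))]
    intro x hx
    rw [Submodule.mem_comap, Submodule.map_smul'', Submodule.map_top]
    have : f x ∈ I ^ t • (⊤ : Submodule A N₂) ⊓ LinearMap.range f := ⟨hx, LinearMap.mem_range_self f x⟩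
    rw [hc t ht] at this
    exact Submodule.smul_mono le_rfl inf_le_right this
  exact Module.length_le_of_surjective (Submodule.factor hle) (Submodule.factor_surjective _)

theorem Bd.of_surjective {k : ℕ} (h : Bd I N₂ k) (hg : Surjective g)
    (hfg : LinearMap.range f = LinearMap.ker g) : Bd I N₃ k := by
  obtain ⟨C, hC⟩ := h
  exact ⟨C, fun t => le_trans (by rw [L_eq_add hg hfg]; exact le_add_self) (hC t)⟩

theorem Bd.of_injective [IsNoetherianRing A] [Module.Finite A N₂] {k : ℕ} (h : Bd I N₂ k)
    (hf : Injective f) (hg : Surjective g) (hfg : LinearMap.range f = LinearMap.ker g) :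
    Bd I N₁ k := by
  obtain ⟨C, hC⟩ := h
  obtain ⟨c, hc⟩ := exists_shift (I := I) hf
  refine ⟨C * (c + 1) ^ k, fun s => ?_⟩
  have h1 := (hc (s + c) (by omega)).trans (le_trans le_self_add (L_eq_add hg hfg (s + c)).ge)
  rw [Nat.add_sub_cancel] at h1
  refine (h1.trans (hC _)).trans ?_
  rw [mul_assoc, ← mul_pow]
  exact_mod_cast Nat.mul_le_mul_left C (Nat.pow_le_pow_left (by nlinarith) k)

theorem Bd.of_exact {k : ℕ} (hg : Surjective g) (hfg : LinearMap.range f = LinearMap.ker g)
    (h₁ : Bd I N₁ k) (h₃ : Bd I N₃ k) : Bd I N₂ k := by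
  obtain ⟨C₁, hC₁⟩ := h₁
  obtain ⟨C₃, hC₃⟩ := h₃
  refine ⟨C₁ + C₃, fun t => (L_le_add hg hfg t).trans ((add_le_add (hC₁ t) (hC₃ t)).trans ?_)⟩
  rw [add_mul, Nat.cast_add]

end ses

theorem Bd.congr {N N' : Type u} [AddCommGroup N] [Module A N] [AddCommGroup N'] [Module A N']
    (e : N ≃ₗ[A] N') {k : ℕ} (h : Bd I N k) : Bd I N' k := by
  obtain ⟨C, hC⟩ := h
  exact ⟨C, fun t => (L_congr e t) ▸ hC t⟩

section Semilocal

variable [IsNoetherianRing A] [IsArtinianRing (A ⧸ I)] (hI : I ≤ Ring.jacobson A)

omit [IsNoetherianRing A] in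
theorem exists_mem_notMem {p : Ideal A} [p.IsPrime] (hp : ¬ p.IsMaximal) : ∃ x ∈ I, x ∉ p := by
  by_contra h
  push Not at h
  refine hp ?_
  have hle : I ≤ p := h
  have : (p.map (Ideal.Quotient.mk I)).IsPrime :=
    Ideal.map_isPrime_of_surjective Ideal.Quotient.mk_surjective (by rw [Ideal.mk_ker]; exact hle)
  have hmax : (p.map (Ideal.Quotient.mk I)).IsMaximal := Ideal.IsPrime.isMaximal' this
  have := Ideal.comap_isMaximal_of_surjective (Ideal.Quotient.mk I) Ideal.Quotient.mk_surjective
    (K := p.map (Ideal.Quotient.mk I))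
  rwa [Ideal.comap_map_of_surjective _ Ideal.Quotient.mk_surjective, ← RingHom.ker_eq_comap_bot,
    Ideal.mk_ker, sup_eq_left.mpr hle] at this

variable {p : Ideal A} [p.IsPrime] {x : A}

include hI in
omit [IsArtinianRing (A ⧸ I)] in
theorem dim_step (hx : x ∈ I) (hxp : x ∉ p) :
    Module.supportDim A (QuotSMulTop x (A ⧸ p)) + 1 = Module.supportDim A (A ⧸ p) ∧
      Nontrivial (QuotSMulTop x (A ⧸ p)) := by
  have hj : x ∈ (⊥ : Ideal A).jacobson := by rw [Ideal.jacobson_bot]; exact hI hx
  refine ⟨Module.supportDim_quotSMulTop_succ_eq_supportDim_mem_jacobson ?_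
    (Ideal.jacobson_mono bot_le hj), ?_⟩
  · intro a b h
    obtain ⟨a, rfl⟩ := Ideal.Quotient.mk_surjective a
    obtain ⟨b, rfl⟩ := Ideal.Quotient.mk_surjective b
    have h' : x * a - x * b ∈ p := Ideal.Quotient.eq.mp h
    rw [← mul_sub] at h'
    exact Ideal.Quotient.eq.mpr ((Ideal.IsPrime.mem_or_mem ‹p.IsPrime› h').resolve_left hxp)
  · have : Nontrivial (A ⧸ p) := Ideal.Quotient.nontrivial_iff.mpr (Ideal.IsPrime.ne_top ‹_›)
    rw [Submodule.Quotient.nontrivial_iff]
    intro h
    have h' : Ideal.span {x} • (⊤ : Submodule A (A ⧸ p)) = ⊤ := by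
      rw [Submodule.ideal_span_singleton_smul]; exact h
    exact top_ne_bot (Submodule.eq_bot_of_le_smul_of_le_jacobson_bot (Ideal.span {x}) ⊤
      Module.Finite.fg_top h'.ge ((Ideal.span_singleton_le_iff_mem _).mpr hj))

theorem range_lsmul (x : A) (N : Type u) [AddCommGroup N] [Module A N] :
    LinearMap.range (LinearMap.lsmul A N x) = LinearMap.ker (Submodule.mkQ (x • (⊤ : Submodule A N))) := by
  rw [Submodule.ker_mkQ, ← Submodule.map_top]
  rfl

theorem subsingleton_or_isSimple_of_maximal (hp : p.IsMaximal) : IsSimpleModule A (A ⧸ p) := by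
  rw [isSimpleModule_iff_isCoatom, ← Ideal.isMaximal_def]
  exact hp

include hI in
/-- Upper bound: `O(t^dim)`. -/
theorem bd_of_supportDim_le : ∀ (k : ℕ) (N : Type u) [AddCommGroup N] [Module A N] [Module.Finite A N],
    Module.supportDim A N ≤ k → Bd I N k := by
  intro k
  induction k using Nat.strong_induction_on with
  | h k ih =>
    intro N _ _ hNf
    induction hNf using IsNoetherianRing.induction_on_isQuotientEquivQuotientPrime A with
    | subsingleton N => exact fun _ => ⟨0, fun t => by simp [L_of_subsingleton]⟩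
    | exact N₁ N₂ N₃ f g hf hg hfg h₁ h₃ =>
      intro hd
      exact Bd.of_exact hg (LinearMap.exact_iff.1 hfg).symm
        (h₁ ((Module.supportDim_le_of_injective f hf).trans hd))
        (h₃ ((Module.supportDim_le_of_surjective g hg).trans hd))
    | quotient N p e =>
      intro hd
      rw [Module.supportDim_eq_of_equiv e] at hd
      refine Bd.congr e.symm ?_
      by_cases hp : p.asIdeal.IsMaximal
      · have := subsingleton_or_isSimple_of_maximal hp
        refine ⟨1, fun t => le_trans ((Module.length_le_of_surjective _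
          (Submodule.mkQ_surjective _)).trans (Module.length_eq_one A (A ⧸ p.asIdeal)).le) ?_⟩
        rw [one_mul]
        exact_mod_cast Nat.one_le_pow _ _ (by omega)
      · obtain ⟨x, hx, hxp⟩ := exists_mem_notMem (I := I) hp
        obtain ⟨hdim, hnt⟩ := dim_step hI hx hxp
        rw [← hdim] at hd
        obtain ⟨k', rfl⟩ : ∃ k', k = k' + 1 := by
          refine Nat.exists_eq_succ_of_ne_zero fun hk => ?_
          have h0 : (0 : WithBot ℕ∞) ≤ Module.supportDim A (QuotSMulTop x (A ⧸ p.asIdeal)) := by
            have := Module.supportDim_ne_bot_of_nontrivial A (QuotSMulTop x (A ⧸ p.asIdeal))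
            revert this
            cases Module.supportDim A (QuotSMulTop x (A ⧸ p.asIdeal)) with
            | bot => simp
            | coe a => intro _; exact WithBot.coe_le_coe.mpr bot_le
          rw [hk] at hd
          have h1 : (1 : WithBot ℕ∞) ≤ 0 :=
            le_trans (le_add_of_nonneg_left h0) (hd.trans (le_of_eq Nat.cast_zero))
          exact absurd h1 (by simp)
        obtain ⟨C, hC⟩ := ih k' (by omega) (QuotSMulTop x (A ⧸ p.asIdeal)) (withBot_le_of_add_one_le hd)
        refine ⟨C, fun t => ?_⟩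
        induction t with
        | zero => simp [L_zero]
        | succ t iht =>
          rw [L_eq_add (Submodule.mkQ_surjective _) (range_lsmul x (A ⧸ p.asIdeal)) (t + 1)]
          have hle : (I ^ t • ⊤ : Submodule A (A ⧸ p.asIdeal)) ≤
              (I ^ (t + 1) • ⊤ : Submodule A (A ⧸ p.asIdeal)).comap (LinearMap.lsmul A _ x) := by
            intro q hq
            rw [Submodule.mem_comap, LinearMap.lsmul_apply, pow_succ', Submodule.mul_smul]
            exact Submodule.smul_mem_smul hx hq
          refine (add_le_add ((Module.length_le_of_surjective (Submodule.factor hle)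
            (Submodule.factor_surjective _)).trans iht) (hC (t + 1))).trans ?_
          rw [← Nat.cast_add]
          refine Nat.cast_le.mpr ?_
          have h4 : (t + 1) ^ k' ≤ (t + 1 + 1) ^ k' := Nat.pow_le_pow_left (by omega) _
          rw [pow_succ (t + 1) k', pow_succ (t + 1 + 1) k']
          nlinarith [Nat.mul_le_mul_left (C * (t + 1)) h4]

theorem sub_comp_mem {P : ℚ[X]} {e : ℕ} (hP : P ∈ degreeLT ℚ (e + 1)) (c : ℚ) :
    P - P.comp (X + Polynomial.C c) ∈ degreeLT ℚ e := by
  rw [mem_degreeLT, degree_lt_iff_coeff_zero]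
  intro m hm
  rw [coeff_sub, ← taylor_apply]
  have hdeg := natDegree_le_of_mem hP
  by_cases h : m = P.natDegree
  · subst h; rw [coeff_taylor_natDegree]; exact sub_self _
  · rw [coeff_eq_zero_of_natDegree_lt (by omega), coeff_eq_zero_of_natDegree_lt (by rw [natDegree_taylor]; omega),
      sub_self]

theorem exists_bound {D : ℚ[X]} {e : ℕ} (hD : D ∈ degreeLT ℚ (e + 1)) :
    ∃ K : ℕ, ∀ t : ℕ, D.eval (t : ℚ) ≤ ((K * (t + 1) ^ e : ℕ) : ℚ) := by
  refine ⟨⌈∑ i ∈ Finset.range (e + 1), |D.coeff i|⌉₊, fun t => ?_⟩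
  rw [eval_eq_sum_range' (Nat.lt_succ_of_le (natDegree_le_of_mem hD))]
  push_cast
  refine le_trans ?_ (mul_le_mul_of_nonneg_right (Nat.le_ceil _) (by positivity))
  rw [Finset.sum_mul]
  refine Finset.sum_le_sum fun i hi => ?_
  refine mul_le_mul (le_abs_self _) ?_ (by positivity) (abs_nonneg _)
  have h1 : (t : ℚ) ^ i ≤ ((t : ℚ) + 1) ^ i := pow_le_pow_left₀ (by positivity) (by linarith) i
  exact h1.trans (pow_le_pow_right₀ (by linarith [t.cast_nonneg (α := ℚ)]) (by
    have := Finset.mem_range.mp hi; omega))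

include hI in
/-- Lower bound. -/
theorem supportDim_le_of_bd : ∀ (e : ℕ) (N : Type u) [AddCommGroup N] [Module A N] [Module.Finite A N],
    Bd I N e → Module.supportDim A N ≤ e := by
  intro e
  induction e using Nat.strong_induction_on with
  | h e ih =>
    intro N _ _ hNf
    induction hNf using IsNoetherianRing.induction_on_isQuotientEquivQuotientPrime A with
    | subsingleton N => intro _; rw [Module.supportDim_eq_bot_of_subsingleton]; exact bot_le
    | exact N₁ N₂ N₃ f g hf hg hfg h₁ h₃ =>
      intro hb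
      have hfg' := (LinearMap.exact_iff.1 hfg).symm
      have hd₁ := h₁ (hb.of_injective hf hg hfg')
      have hd₃ := h₃ (hb.of_surjective hg hfg')
      refine iSup_le fun l => ?_
      have hhead : (l.head : PrimeSpectrum A) ∈ Module.support A N₁ ∪ Module.support A N₃ := by
        rw [← Module.support_of_exact hfg hf hg]
        exact l.head.2
      have key : ∀ (S : Set (PrimeSpectrum A)),
          (∀ q r : PrimeSpectrum A, q ∈ S → q ≤ r → r ∈ S) → (l.head : PrimeSpectrum A) ∈ S →
          ((l.length : ℕ∞) : WithBot ℕ∞) ≤ Order.krullDim S := fun S hS h0 => by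
        let l' : LTSeries S :=
          { length := l.length
            toFun := fun i => ⟨(l i).1, hS _ _ h0 (l.monotone (Fin.zero_le i))⟩
            step := fun i => l.step i }
        exact Order.LTSeries.length_le_krullDim l'
      rcases hhead with h | h
      · exact (key _ (fun q r hq hqr => Module.mem_support_mono hqr hq) h).trans hd₁
      · exact (key _ (fun q r hq hqr => Module.mem_support_mono hqr hq) h).trans hd₃
    | quotient N p e' =>
      intro hb
      rw [Module.supportDim_eq_of_equiv e']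
      have hb' : Bd I (A ⧸ p.asIdeal) e := hb.congr e'
      by_cases hp : p.asIdeal.IsMaximal
      · let : Field (A ⧸ p.asIdeal) := Ideal.Quotient.field p.asIdeal
        rw [Module.supportDim_quotient_eq_ringKrullDim, ringKrullDim_eq_zero_of_field]
        exact_mod_cast Nat.zero_le e
      · obtain ⟨x, hx, hxp⟩ := exists_mem_notMem (I := I) hp
        obtain ⟨hdim, hnt⟩ := dim_step hI hx hxp
        obtain ⟨hfin, k, P, hPk, hP⟩ := Basic.evPoly_samuel (A := A) (M := A ⧸ p.asIdeal) I
        obtain ⟨C, hC⟩ := hb'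
        have hPe : P ∈ degreeLT ℚ (e + 1) := by
          refine mem_of_natDegree_le (natDegree_le_of_bound (K := (C : ℚ)) ?_)
          filter_upwards [hP] with t ht
          rw [← ht]
          refine ⟨Nat.cast_nonneg _, ?_⟩
          have h1 := ENat.toNat_le_toNat (hC t) (ENat.coe_ne_top _)
          rw [ENat.toNat_coe] at h1
          exact_mod_cast h1
        obtain ⟨c, hc⟩ := exists_shift (I := I) (N₁ := A ⧸ p.asIdeal) (N₂ := A ⧸ p.asIdeal)
          (f := LinearMap.lsmul A _ x) (fun a b h => by
            obtain ⟨a, rfl⟩ := Ideal.Quotient.mk_surjective a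
            obtain ⟨b, rfl⟩ := Ideal.Quotient.mk_surjective b
            have h' : x * a - x * b ∈ p.asIdeal := Ideal.Quotient.eq.mp h
            rw [← mul_sub] at h'
            exact Ideal.Quotient.eq.mpr ((p.isPrime.mem_or_mem h').resolve_left hxp))
        set D : ℚ[X] := P - P.comp (X + Polynomial.C (-(c : ℚ)))
        have hD : D ∈ degreeLT ℚ e := sub_comp_mem hPe _
        set LQ : ℕ → ℕ := fun t => (L I (QuotSMulTop x (A ⧸ p.asIdeal)) t).toNat
        have hLQfin : ∀ t, L I (QuotSMulTop x (A ⧸ p.asIdeal)) t ≠ ⊤ :=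
          (Basic.evPoly_samuel (A := A) (M := QuotSMulTop x (A ⧸ p.asIdeal)) I).1
        obtain ⟨T, hT⟩ := eventually_atTop.mp hP
        have hLQ : ∀ t ≥ T + c, (LQ t : ℚ) ≤ D.eval (t : ℚ) := fun t ht => by
          have h1 := L_eq_add (I := I) (Submodule.mkQ_surjective _) (range_lsmul x (A ⧸ p.asIdeal)) t
          have h2 : L I (A ⧸ p.asIdeal) (t - c) + L I (QuotSMulTop x (A ⧸ p.asIdeal)) t ≤
              L I (A ⧸ p.asIdeal) t := by
            rw [h1]; exact add_le_add_left (hc t (by omega)) _
          have h3 := ENat.toNat_le_toNat h2 (hfin t)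
          rw [ENat.toNat_add (show L I (A ⧸ p.asIdeal) (t - c) ≠ ⊤ from hfin _) (hLQfin t)] at h3
          have h4 := (Nat.cast_le (α := ℚ)).mpr h3
          rw [Nat.cast_add] at h4
          have e1 := hT t (by omega)
          have e2 := hT (t - c) (by omega)
          simp only [L] at h4
          beta_reduce at e1 e2
          rw [e1, e2, Nat.cast_sub (by omega : c ≤ t)] at h4
          simp only [D, LQ, L, eval_sub, eval_comp, eval_add, eval_X, eval_C, ← sub_eq_add_neg]
          linarith
        rcases Nat.eq_zero_or_pos e with rfl | he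
        · exfalso
          have hD0 : D = 0 := by
            rw [mem_degreeLT] at hD
            exact degree_eq_bot.mp (by simpa using hD)
          have h0 := hLQ (T + c + 1) (by omega)
          rw [hD0, eval_zero, Nat.cast_nonpos, ENat.toNat_eq_zero] at h0
          rcases h0 with h0 | h0
          · rw [L, Module.length_eq_zero_iff, Submodule.Quotient.subsingleton_iff] at h0
            exact top_ne_bot (Submodule.eq_bot_of_le_smul_of_le_jacobson_bot (I ^ (T + c + 1)) ⊤
              Module.Finite.fg_top h0.ge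
              ((Ideal.pow_le_self (by omega)).trans (by rw [Ideal.jacobson_bot]; exact hI)))
          · exact hLQfin _ h0
        obtain ⟨e', rfl⟩ : ∃ e', e = e' + 1 := ⟨e - 1, by omega⟩
        obtain ⟨K, hK⟩ := exists_bound hD
        have hQ : Bd I (QuotSMulTop x (A ⧸ p.asIdeal)) e' := by
          refine ⟨K + ∑ t ∈ Finset.range (T + c), LQ t, fun t => ?_⟩
          rw [← ENat.coe_toNat (hLQfin t)]
          refine Nat.cast_le.mpr ?_
          show LQ t ≤ _
          rw [add_mul]
          by_cases ht : t < T + c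
          · refine le_add_left (le_trans ?_ (Nat.le_mul_of_pos_right _ (pow_pos (by omega) _)))
            exact Finset.single_le_sum (fun i _ => Nat.zero_le (LQ i)) (Finset.mem_range.mpr ht)
          · refine le_add_right ?_
            exact_mod_cast (hLQ t (by omega)).trans (hK t)
        rw [← hdim, Nat.cast_add, Nat.cast_one]
        exact add_le_add (ih e' (by omega) _ hQ) le_rfl

include hI in
/-- The Hilbert–Samuel polynomial has degree the dimension. -/
theorem exists_polynomial (M : Type u) [AddCommGroup M] [Module A M] [Module.Finite A M] [Nontrivial M]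
    {d : ℕ} (hd : Module.supportDim A M = d) :
    ∃ P : ℚ[X], (∃ N : ℕ, ∀ n : ℕ, N ≤ n → ∃ ℓ : ℕ, L I M n = ℓ ∧ (ℓ : ℚ) = P.eval (n : ℚ)) ∧
      P.natDegree = d := by
  obtain ⟨hfin, k, P, hPk, hP⟩ := Basic.evPoly_samuel (A := A) (M := M) I
  obtain ⟨T, hT⟩ := eventually_atTop.mp hP
  refine ⟨P, ⟨T, fun n hn => ⟨_, (ENat.coe_toNat (hfin n)).symm, hT n hn⟩⟩, ?_⟩
  refine le_antisymm ?_ ?_
  · obtain ⟨C, hC⟩ := bd_of_supportDim_le hI d M hd.le
    refine natDegree_le_of_bound (K := (C : ℚ)) ?_
    filter_upwards [hP] with t ht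
    rw [← ht]
    refine ⟨Nat.cast_nonneg _, ?_⟩
    have h1 := ENat.toNat_le_toNat (hC t) (ENat.coe_ne_top _)
    rw [ENat.toNat_coe] at h1
    exact_mod_cast h1
  · obtain ⟨K, hK⟩ := exists_bound (mem_of_natDegree_le (le_refl P.natDegree))
    have hb : Bd I M P.natDegree := by
      refine ⟨K + ∑ t ∈ Finset.range T, (L I M t).toNat, fun t => ?_⟩
      rw [← ENat.coe_toNat (show L I M t ≠ ⊤ from hfin t)]
      refine Nat.cast_le.mpr ?_
      rw [add_mul]
      by_cases ht : t < T
      · refine le_add_left (le_trans ?_ (Nat.le_mul_of_pos_right _ (pow_pos (by omega) _)))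
        exact Finset.single_le_sum (fun i _ => Nat.zero_le ((L I M i).toNat)) (Finset.mem_range.mpr ht)
      · refine le_add_right ?_
        have h5 : ((L I M t).toNat : ℚ) ≤ ((K * (t + 1) ^ P.natDegree : ℕ) : ℚ) :=
          (hT t (by omega)).trans_le (hK t)
        exact_mod_cast h5
    have := supportDim_le_of_bd hI _ M hb
    rw [hd] at this
    exact_mod_cast this

end Semilocal

end Groth.Agent.HilbSam.Degree
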