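import Groth.Agent.HilbSam.Poly
import Mathlib.RingTheory.Filtration
import Mathlib.RingTheory.Length
import Mathlib.RingTheory.Artinian.Module
import Mathlib.RingTheory.FiniteLength
import Mathlib.Algebra.Module.Torsion.Basic

/-!
# Hilbert–Samuel functions are eventually polynomial
-/

universe u

noncomputable section

namespace Groth.Agent.HilbSam.Basic

open Filter Groth.Agent.HilbSam.Poly

variable {A : Type u} [CommRing A] {M : Type u} [AddCommGroup M] [Module A M]

/-- Length of the subquotient `Q/P`. -/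
def len (P Q : Submodule A M) : ℕ∞ := Module.length A (↥Q ⧸ P.comap Q.subtype)

/-- The exact sequence of multiplication by `x` on subquotients. -/
theorem len_mul_seq {P Q P' Q' : Submodule A M} (hPQ : P ≤ Q) (hPQ' : P' ≤ Q') (x : A)
    (hx : Q.map (x • LinearMap.id) ≤ Q') (hxP : P.map (x • LinearMap.id) ≤ P') :
    len P Q + len (P' ⊔ Q.map (x • LinearMap.id)) Q' =
      len P (Q ⊓ P'.comap (x • LinearMap.id)) + len P' Q' := by
  set K := Q ⊓ P'.comap (x • LinearMap.id) with hK
  set C := P' ⊔ Q.map (x • LinearMap.id) with hC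
  have hxe : ∀ q : M, (x • LinearMap.id : M →ₗ[A] M) q = x • q := fun q => rfl
  let m : Q →ₗ[A] Q' := ((x • LinearMap.id : M →ₗ[A] M).comp Q.subtype).codRestrict Q'
    fun q => hx ⟨q, q.2, rfl⟩
  let φ : (↥Q ⧸ P.comap Q.subtype) →ₗ[A] ↥Q' ⧸ P'.comap Q'.subtype :=
    Submodule.mapQ _ _ m fun q hq => hxP ⟨q, hq, rfl⟩
  let i : (↥K ⧸ P.comap K.subtype) →ₗ[A] ↥Q ⧸ P.comap Q.subtype :=
    Submodule.mapQ _ _ (Submodule.inclusion inf_le_left) fun q hq => hq
  have hi : Function.Injective i := by
    rw [← LinearMap.ker_eq_bot, eq_bot_iff]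
    intro q hq
    obtain ⟨q, rfl⟩ := Submodule.Quotient.mk_surjective _ q
    rw [Submodule.mem_bot, Submodule.Quotient.mk_eq_zero]
    have h := LinearMap.mem_ker.mp hq
    rw [Submodule.mapQ_apply, Submodule.Quotient.mk_eq_zero] at h
    exact h
  have hik : Function.Exact i φ := by
    intro q
    obtain ⟨q, rfl⟩ := Submodule.Quotient.mk_surjective _ q
    constructor
    · intro h
      rw [Submodule.mapQ_apply, Submodule.Quotient.mk_eq_zero] at h
      have h' : x • (q : M) ∈ P' := h
      exact ⟨Submodule.Quotient.mk ⟨q, q.2, h'⟩, rfl⟩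
    · rintro ⟨y, hy⟩
      obtain ⟨y, rfl⟩ := Submodule.Quotient.mk_surjective _ y
      rw [← hy]
      exact (Submodule.Quotient.mk_eq_zero _).mpr y.2.2
  let π : (↥Q' ⧸ P'.comap Q'.subtype) →ₗ[A] ↥Q' ⧸ C.comap Q'.subtype :=
    Submodule.mapQ _ _ LinearMap.id fun q hq => show (q : M) ∈ C from Submodule.mem_sup_left hq
  have hπ : Function.Surjective π := fun q => by
    obtain ⟨q, rfl⟩ := Submodule.Quotient.mk_surjective _ q
    exact ⟨Submodule.Quotient.mk q, rfl⟩
  have hφπ : Function.Exact φ π := by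
    intro q
    obtain ⟨q, rfl⟩ := Submodule.Quotient.mk_surjective _ q
    constructor
    · intro h
      obtain ⟨a, ha, b, ⟨c, hc, hcb⟩, hab⟩ := Submodule.mem_sup.mp ((Submodule.Quotient.mk_eq_zero _).mp h :)
      refine ⟨Submodule.Quotient.mk ⟨c, hc⟩, ?_⟩
      show Submodule.Quotient.mk _ = _
      rw [Submodule.Quotient.eq]
      show x • c - (q : M) ∈ P'
      have : x • c = b := by rw [← hcb, hxe]
      rw [this, show (q : M) = a + b from hab.symm, sub_add_cancel_right]
      exact neg_mem ha
    · rintro ⟨y, hy⟩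
      obtain ⟨y, rfl⟩ := Submodule.Quotient.mk_surjective _ y
      rw [← hy]
      exact (Submodule.Quotient.mk_eq_zero _).mpr
        (show x • (y : M) ∈ C from Submodule.mem_sup_right ⟨y, y.2, rfl⟩)
  -- lengths
  let R := LinearMap.range φ
  have h1 : Module.length A (↥Q ⧸ P.comap Q.subtype) =
      Module.length A (↥K ⧸ P.comap K.subtype) + Module.length A R :=
    Module.length_eq_add_of_exact i φ.rangeRestrict hi φ.surjective_rangeRestrict
      (fun q => by rw [← hik q]; exact Subtype.ext_iff)
  have h2 : Module.length A (↥Q' ⧸ P'.comap Q'.subtype) =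
      Module.length A R + Module.length A (↥Q' ⧸ C.comap Q'.subtype) :=
    Module.length_eq_add_of_exact R.subtype π Subtype.val_injective hπ (fun q => by
      rw [hφπ q]
      simp [R])
  show Module.length A (↥Q ⧸ P.comap Q.subtype) + Module.length A (↥Q' ⧸ C.comap Q'.subtype) = _
  rw [h1, show len P' Q' = _ from h2, add_assoc]
  rfl

/-- Subquotients of finite length. -/
theorem len_ne_top_of_le {P P' Q Q' : Submodule A M} (hQ : Q' ≤ Q) (hP : P ≤ P')
    (h : len P Q ≠ ⊤) : len P' Q' ≠ ⊤ := by
  let i : (↥Q' ⧸ P.comap Q'.subtype) →ₗ[A] ↥Q ⧸ P.comap Q.subtype :=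
    Submodule.mapQ _ _ (Submodule.inclusion hQ) fun q hq => hq
  have hi : Function.Injective i := by
    rw [← LinearMap.ker_eq_bot, eq_bot_iff]
    intro q hq
    obtain ⟨q, rfl⟩ := Submodule.Quotient.mk_surjective _ q
    rw [Submodule.mem_bot, Submodule.Quotient.mk_eq_zero]
    have h := LinearMap.mem_ker.mp hq
    rw [Submodule.mapQ_apply, Submodule.Quotient.mk_eq_zero] at h
    exact h
  refine ne_top_of_le_ne_top (ne_top_of_le_ne_top h (Module.length_le_of_injective i hi)) ?_
  exact Module.length_le_of_surjective (Submodule.factor (Submodule.comap_mono hP))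
    (Submodule.factor_surjective _)

variable [IsNoetherianRing A] [Module.Finite A M]

/-- Main induction on the number of generators. -/
theorem evPoly_len (I : Ideal A) : ∀ (r : ℕ) (xs : Fin r → A) (Z : Ideal A) (F G : I.Filtration M),
    (∀ n, F.N n ≤ G.N n) → G.Stable → (∀ n, len (F.N n) (G.N n) ≠ ⊤) →
    (∀ n, Z • G.N n ≤ F.N (n + 1)) → (∀ i, xs i ∈ I) → I ≤ Ideal.span (Set.range xs) ⊔ Z →
    EvPoly (fun n => ((len (F.N n) (G.N n)).toNat : ℚ)) r := by
  intro r
  induction r with
  | zero =>
    intro xs Z F G hle hG _ hZ _ hI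
    refine ⟨0, zero_mem _, ?_⟩
    obtain ⟨n₀, hn₀⟩ := hG
    refine eventually_atTop.mpr ⟨n₀ + 1, fun n hn => ?_⟩
    obtain ⟨m, rfl⟩ : ∃ m, n = m + 1 := ⟨n - 1, by omega⟩
    have hIZ : I ≤ Z := by simpa [Set.range_eq_empty] using hI
    have h1 : G.N (m + 1) ≤ F.N (m + 1) := by
      rw [← hn₀ m (by omega)]
      exact le_trans (Submodule.smul_mono_left hIZ) (hZ m)
    have : Subsingleton (↥(G.N (m + 1)) ⧸ (F.N (m + 1)).comap (G.N (m + 1)).subtype) := by
      rw [Submodule.Quotient.subsingleton_iff, eq_top_iff]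
      exact fun q _ => h1 q.2
    simp [len, Module.length_eq_zero_iff.mpr this]
  | succ r ih =>
    intro xs Z F G hle hG hfin hZ hxs hI
    set x := xs (Fin.last r)
    have hx : x ∈ I := hxs _
    let f : M →ₗ[A] M := x • LinearMap.id
    have hf : ∀ q, f q = x • q := fun q => rfl
    have hI' : I ≤ Ideal.span (Set.range (xs ∘ Fin.castSucc)) ⊔ (Z ⊔ Ideal.span {x}) := by
      refine hI.trans (sup_le (Ideal.span_le.mpr ?_) (le_sup_of_le_right le_sup_left))
      rintro _ ⟨i, rfl⟩
      refine i.lastCases ?_ fun j => ?_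
      · exact Submodule.mem_sup_right (Submodule.mem_sup_right (Ideal.mem_span_singleton_self _))
      · exact Submodule.mem_sup_left (Ideal.subset_span ⟨j, rfl⟩)
    have hxG : ∀ n, ∀ q ∈ G.N n, x • q ∈ G.N (n + 1) := fun n q hq =>
      G.smul_le n (Submodule.smul_mem_smul hx hq)
    have hxF : ∀ n, ∀ q ∈ F.N n, x • q ∈ F.N (n + 1) := fun n q hq =>
      F.smul_le n (Submodule.smul_mem_smul hx hq)
    let K : I.Filtration M :=
      { N := fun n => G.N n ⊓ (F.N (n + 1)).comap f
        mono := fun n => inf_le_inf (G.mono n) (Submodule.comap_mono (F.mono (n + 1)))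
        smul_le := fun n => by
          rw [Submodule.smul_le]
          rintro a ha q ⟨hq, hq'⟩
          refine ⟨G.smul_le n (Submodule.smul_mem_smul ha hq), ?_⟩
          show f (a • q) ∈ F.N (n + 1 + 1)
          rw [map_smul]
          exact F.smul_le (n + 1) (Submodule.smul_mem_smul ha hq') }
    let C : I.Filtration M :=
      { N := fun n => F.N n ⊔ (G.N (n - 1)).map f
        mono := fun n => sup_le_sup (F.mono n) (Submodule.map_mono (G.antitone (by omega)))
        smul_le := fun n => by
          rw [Submodule.smul_sup, ← Submodule.map_smul'']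
          exact sup_le_sup (F.smul_le n) (Submodule.map_mono ((G.smul_le (n - 1)).trans (G.antitone (by omega)))) }
    have hKG : ∀ n, K.N n ≤ G.N n := fun n => inf_le_left
    have hFK : ∀ n, F.N n ≤ K.N n := fun n => le_inf (hle n) fun q hq => hxF n q hq
    have hCG : ∀ n, C.N n ≤ G.N n := fun n => by
      refine sup_le (hle n) ?_
      rintro _ ⟨q, hq, rfl⟩
      exact G.antitone (show n ≤ n - 1 + 1 by omega) (hxG (n - 1) q hq)
    have hK : K.Stable := hG.of_le (fun n => hKG n)
    have ihK := ih (xs ∘ Fin.castSucc) (Z ⊔ Ideal.span {x}) F K hFK hK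
      (fun n => len_ne_top_of_le (hKG n) le_rfl (hfin n)) (fun n => by
        rw [Submodule.sup_smul, Submodule.ideal_span_singleton_smul]
        refine sup_le ((Submodule.smul_mono le_rfl (hKG n)).trans (hZ n)) ?_
        intro y hy
        obtain ⟨q, hq, rfl⟩ := Submodule.mem_smul_pointwise_iff_exists _ _ _ |>.mp hy
        exact hq.2) (fun i => hxs _) hI'
    have ihC := ih (xs ∘ Fin.castSucc) (Z ⊔ Ideal.span {x}) C G hCG hG
      (fun n => len_ne_top_of_le le_rfl le_sup_left (hfin n)) (fun n => by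
        rw [Submodule.sup_smul, Submodule.ideal_span_singleton_smul]
        refine sup_le ((hZ n).trans le_sup_left) ?_
        intro y hy
        obtain ⟨q, hq, rfl⟩ := Submodule.mem_smul_pointwise_iff_exists _ _ _ |>.mp hy
        exact Submodule.mem_sup_right ⟨q, by simpa using hq, rfl⟩) (fun i => hxs _) hI'
    refine EvPoly.of_diff ?_
    have key : ∀ n, ((len (F.N (n + 1)) (G.N (n + 1))).toNat : ℚ) - (len (F.N n) (G.N n)).toNat =
        ((len (C.N (n + 1)) (G.N (n + 1))).toNat : ℚ) - (len (F.N n) (K.N n)).toNat := by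
      intro n
      have h := len_mul_seq (hle n) (hle (n + 1)) x
        (by rintro _ ⟨q, hq, rfl⟩; exact hxG n q hq) (by rintro _ ⟨q, hq, rfl⟩; exact hxF n q hq)
      have h' := congrArg ENat.toNat h
      have e : C.N (n + 1) = F.N (n + 1) ⊔ (G.N n).map f := by simp [C]
      rw [e]
      rw [ENat.toNat_add (hfin n) (len_ne_top_of_le le_rfl le_sup_left (hfin (n + 1))),
        ENat.toNat_add (len_ne_top_of_le inf_le_left le_rfl (hfin n)) (hfin (n + 1))] at h'
      have h'' := congrArg (Nat.cast (R := ℚ)) h'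
      push_cast at h''
      show _ = _ - ((len (F.N n) (G.N n ⊓ (F.N (n + 1)).comap f)).toNat : ℚ)
      linarith
    exact (funext key).symm ▸ ihC.succ.sub ihK

/-- Finitely generated modules killed by an ideal with Artinian quotient have finite length. -/
theorem length_ne_top_of_killed {I : Ideal A} [IsArtinianRing (A ⧸ I)] (N : Type u) [AddCommGroup N]
    [Module A N] [Module.Finite A N] (h : Module.IsTorsionBySet A N (I : Set A)) :
    Module.length A N ≠ ⊤ := by
  letI := h.module
  haveI : IsScalarTower A (A ⧸ I) N := h.isScalarTower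
  haveI : Module.Finite (A ⧸ I) N := Module.Finite.of_restrictScalars_finite A _ _
  rw [Module.length_ne_top_iff, isFiniteLength_iff_isNoetherian_isArtinian]
  exact ⟨inferInstance, isArtinian_of_surjective_algebraMap (R := A ⧸ I) Ideal.Quotient.mk_surjective⟩

/-- `n ↦ length (M/I^n M)` is eventually polynomial, with finite values. -/
theorem evPoly_samuel (I : Ideal A) [IsArtinianRing (A ⧸ I)] :
    (∀ n, Module.length A (M ⧸ (I ^ n • ⊤ : Submodule A M)) ≠ ⊤) ∧
      ∃ k, EvPoly (fun n => ((Module.length A (M ⧸ (I ^ n • ⊤ : Submodule A M))).toNat : ℚ)) k := by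
  let G := I.stableFiltration (⊤ : Submodule A M)
  let F : I.Filtration M :=
    { N := fun n => G.N (n + 1)
      mono := fun n => G.mono (n + 1)
      smul_le := fun n => G.smul_le (n + 1) }
  have hle : ∀ n, F.N n ≤ G.N n := fun n => G.mono n
  have hpiece : ∀ n, len (F.N n) (G.N n) ≠ ⊤ := fun n => by
    refine length_ne_top_of_killed (I := I) _ fun q a => ?_
    obtain ⟨q, rfl⟩ := Submodule.Quotient.mk_surjective _ q
    rw [← Submodule.Quotient.mk_smul, Submodule.Quotient.mk_eq_zero]
    exact G.smul_le n (Submodule.smul_mem_smul a.2 q.2)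
  have hstep : ∀ n, Module.length A (M ⧸ G.N (n + 1)) =
      len (F.N n) (G.N n) + Module.length A (M ⧸ G.N n) := fun n => by
    refine Module.length_eq_add_of_exact
      (Submodule.mapQ _ _ (G.N n).subtype fun q hq => hq) (Submodule.factor (G.mono n)) ?_
      (Submodule.factor_surjective _) ?_
    · rw [← LinearMap.ker_eq_bot, eq_bot_iff]
      intro q hq
      obtain ⟨q, rfl⟩ := Submodule.Quotient.mk_surjective _ q
      rw [Submodule.mem_bot, Submodule.Quotient.mk_eq_zero]
      have h := LinearMap.mem_ker.mp hq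
      rw [Submodule.mapQ_apply, Submodule.Quotient.mk_eq_zero] at h
      exact h
    · intro q
      obtain ⟨q, rfl⟩ := Submodule.Quotient.mk_surjective _ q
      constructor
      · intro h
        exact ⟨Submodule.Quotient.mk ⟨q, (Submodule.Quotient.mk_eq_zero _).mp h⟩, rfl⟩
      · rintro ⟨y, hy⟩
        obtain ⟨y, rfl⟩ := Submodule.Quotient.mk_surjective _ y
        rw [← hy]
        exact (Submodule.Quotient.mk_eq_zero _).mpr y.2
  have hfin : ∀ n, Module.length A (M ⧸ G.N n) ≠ ⊤ := by
    intro n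
    induction n with
    | zero =>
      have : Subsingleton (M ⧸ G.N 0) := by
        rw [Submodule.Quotient.subsingleton_iff]
        show I ^ 0 • (⊤ : Submodule A M) = ⊤
        rw [pow_zero, Ideal.one_eq_top, Submodule.top_smul]
      rw [Module.length_eq_zero_iff.mpr this]
      exact ENat.zero_ne_top
    | succ n ih => rw [hstep]; exact WithTop.add_ne_top.mpr ⟨hpiece n, ih⟩
  obtain ⟨s, hs⟩ := (IsNoetherian.noetherian I : I.FG)
  let xs : Fin s.card → A := fun i => s.equivFin.symm i
  have hxs : Set.range xs = (s : Set A) := by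
    ext a
    exact ⟨by rintro ⟨i, rfl⟩; exact (s.equivFin.symm i).2, fun ha => ⟨s.equivFin ⟨a, ha⟩, by simp [xs]⟩⟩
  have h := evPoly_len I s.card xs ⊥ F G hle (I.stableFiltration_stable ⊤) hpiece
    (fun n => by rw [Submodule.bot_smul]; exact bot_le)
    (fun i => hs ▸ Ideal.subset_span (s.equivFin.symm i).2)
    (by rw [hxs, sup_bot_eq]; exact hs.ge)
  refine ⟨hfin, s.card + 1, EvPoly.of_diff ?_⟩
  convert h using 1
  funext n
  show ((Module.length A (M ⧸ G.N (n + 1))).toNat : ℚ) - ((Module.length A (M ⧸ G.N n)).toNat : ℚ) = _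
  rw [hstep, ENat.toNat_add (hpiece n) (hfin n)]
  push_cast
  ring

end Groth.Agent.HilbSam.Basic
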