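import Mathlib.RingTheory.Polynomial.Pochhammer
import Mathlib.RingTheory.Polynomial.Basic
import Mathlib.Analysis.Polynomial.Basic
import Mathlib.Order.Filter.AtTopBot.Basic

/-!
# Eventually polynomial functions
-/

namespace Groth.Agent.HilbSam.Poly

open Polynomial Filter

/-- `f` eventually agrees with a polynomial of degree `< k`. -/
def EvPoly (f : ℕ → ℚ) (k : ℕ) : Prop :=
  ∃ P ∈ degreeLT ℚ k, ∀ᶠ n in atTop, f n = P.eval (n : ℚ)

lemma natDegree_le_of_mem {P : ℚ[X]} {k : ℕ} (h : P ∈ degreeLT ℚ (k + 1)) : P.natDegree ≤ k := by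
  rw [mem_degreeLT] at h
  rcases eq_or_ne P 0 with rfl | hP
  · simp
  · rw [degree_eq_natDegree hP] at h
    have : P.natDegree < k + 1 := by exact_mod_cast h
    omega

lemma mem_of_natDegree_le {P : ℚ[X]} {k : ℕ} (h : P.natDegree ≤ k) : P ∈ degreeLT ℚ (k + 1) := by
  rw [mem_degreeLT]
  exact lt_of_le_of_lt degree_le_natDegree (by exact_mod_cast Nat.lt_succ_of_le h)

/-- Discrete antiderivative. -/
theorem exists_antidiff : ∀ (k : ℕ) (D : ℚ[X]), D ∈ degreeLT ℚ k →
    ∃ Q ∈ degreeLT ℚ (k + 1), ∀ x : ℚ, Q.eval (x + 1) - Q.eval x = D.eval x := by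
  intro k
  induction k with
  | zero =>
    intro D hD
    have : D = 0 := by
      rw [mem_degreeLT] at hD
      exact degree_eq_bot.mp (by simpa using hD)
    exact ⟨0, zero_mem _, fun x => by simp [this]⟩
  | succ k ih =>
    intro D hD
    set a := D.coeff k
    have hdeg : D.natDegree ≤ k := natDegree_le_of_mem hD
    have hD' : D - C a * descPochhammer ℚ k ∈ degreeLT ℚ k := by
      rw [mem_degreeLT, degree_lt_iff_coeff_zero]
      intro m hm
      rw [coeff_sub, coeff_C_mul]
      rcases eq_or_lt_of_le hm with rfl | hlt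
      · have h1 := (monic_descPochhammer ℚ k).coeff_natDegree
        rw [descPochhammer_natDegree] at h1
        rw [h1, mul_one, sub_self]
      · rw [coeff_eq_zero_of_natDegree_lt (by omega),
          coeff_eq_zero_of_natDegree_lt (by rw [descPochhammer_natDegree]; exact hlt), mul_zero, sub_self]
    obtain ⟨Q, hQ, hQe⟩ := ih _ hD'
    refine ⟨Q + C (a / (k + 1)) * descPochhammer ℚ (k + 1), ?_, fun x => ?_⟩
    · refine add_mem (degreeLT_mono (Nat.le_succ _) hQ) (mem_of_natDegree_le ?_)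
      exact natDegree_C_mul_le _ _ |>.trans (descPochhammer_natDegree ℚ (k + 1)).le
    · have e1 : (descPochhammer ℚ (k + 1)).eval (x + 1) = (x + 1) * (descPochhammer ℚ k).eval x := by
        rw [descPochhammer_succ_left, eval_mul, eval_X, eval_comp]
        simp
      have e2 : (descPochhammer ℚ (k + 1)).eval x = (descPochhammer ℚ k).eval x * (x - k) := by
        rw [descPochhammer_succ_right, eval_mul]
        simp
      have e3 := hQe x
      rw [eval_sub, eval_mul, eval_C] at e3
      simp only [eval_add, eval_mul, eval_C, e1, e2]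
      have hk : ((k : ℚ) + 1) ≠ 0 := Nat.cast_add_one_ne_zero k
      field_simp
      linear_combination ((k : ℚ) + 1) * e3

lemma comp_mem {P : ℚ[X]} {k : ℕ} (h : P ∈ degreeLT ℚ k) (c : ℚ) : P.comp (X + C c) ∈ degreeLT ℚ k := by
  rcases k with _ | k
  · rw [mem_degreeLT] at h
    have : P = 0 := degree_eq_bot.mp (by simpa using h)
    simp [this]
  · refine mem_of_natDegree_le ?_
    rw [natDegree_comp, natDegree_X_add_C, mul_one]
    exact natDegree_le_of_mem h

/-- Shifted arguments. -/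
theorem EvPoly.succ {f : ℕ → ℚ} {k : ℕ} (h : EvPoly f k) : EvPoly (fun n => f (n + 1)) k := by
  obtain ⟨P, hP, he⟩ := h
  refine ⟨P.comp (X + C 1), comp_mem hP 1, ?_⟩
  filter_upwards [(tendsto_add_atTop_nat 1).eventually he] with n hn
  simp [hn]

theorem EvPoly.sub {f g : ℕ → ℚ} {k : ℕ} (hf : EvPoly f k) (hg : EvPoly g k) :
    EvPoly (fun n => f n - g n) k := by
  obtain ⟨P, hP, he⟩ := hf
  obtain ⟨Q, hQ, he'⟩ := hg
  refine ⟨P - Q, sub_mem hP hQ, ?_⟩
  filter_upwards [he, he'] with n hn hn'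
  simp [hn, hn']

theorem EvPoly.mono {f : ℕ → ℚ} {k l : ℕ} (h : EvPoly f k) (hkl : k ≤ l) : EvPoly f l := by
  obtain ⟨P, hP, he⟩ := h
  exact ⟨P, degreeLT_mono hkl hP, he⟩

/-- A function with eventually polynomial differences is eventually polynomial. -/
theorem EvPoly.of_diff {f : ℕ → ℚ} {k : ℕ} (h : EvPoly (fun n => f (n + 1) - f n) k) :
    EvPoly f (k + 1) := by
  obtain ⟨D, hD, he⟩ := h
  obtain ⟨Q, hQ, hQe⟩ := exists_antidiff k D hD
  obtain ⟨N, hN⟩ := eventually_atTop.mp he
  refine ⟨Q + C (f N - Q.eval (N : ℚ)), add_mem hQ (mem_of_natDegree_le (by simp)), ?_⟩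
  refine eventually_atTop.mpr ⟨N, fun n hn => ?_⟩
  induction n, hn using Nat.le_induction with
  | base => simp
  | succ n hn ih =>
    have h1 := hN n hn
    have h2 := hQe n
    simp only [eval_add, eval_C] at ih ⊢
    push_cast at h1 ⊢
    linarith

/-- Degree bound from an eventual growth bound. -/
theorem natDegree_le_of_bound {P : ℚ[X]} {k : ℕ} {K : ℚ}
    (h : ∀ᶠ n : ℕ in atTop, 0 ≤ P.eval (n : ℚ) ∧ P.eval (n : ℚ) ≤ K * ((n : ℚ) + 1) ^ k) :
    P.natDegree ≤ k := by
  by_contra hlt
  push Not at hlt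
  have hP : P ≠ 0 := fun h0 => by rw [h0, natDegree_zero] at hlt; omega
  set R : ℚ[X] := C K * (X + C 1) ^ k
  have hR : R.degree < P.degree := by
    refine lt_of_le_of_lt ?_ (show ((k : ℕ) : WithBot ℕ) < P.degree by
      rw [degree_eq_natDegree hP]; exact_mod_cast hlt)
    refine (degree_mul_le _ _).trans ?_
    refine (add_le_add degree_C_le (degree_pow_le _ _)).trans ?_
    rw [degree_X_add_C]
    simp
  rcases lt_or_gt_of_ne (leadingCoeff_ne_zero.mpr hP) with hneg | hpos
  · have h1 := (P.tendsto_atBot_of_leadingCoeff_nonpos (by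
      rw [degree_eq_natDegree hP]; exact_mod_cast (lt_of_le_of_lt (Nat.zero_le k) hlt)) hneg.le)
    have h2 := (h1.comp tendsto_natCast_atTop_atTop).eventually_lt_atBot (0 : ℚ)
    obtain ⟨n, hn, hn'⟩ := (h.and h2).exists
    exact absurd hn' (not_lt.mpr hn.1)
  · have hdeg : (P - R).degree = P.degree := degree_sub_eq_left_of_degree_lt hR
    have hlc : (P - R).leadingCoeff = P.leadingCoeff := leadingCoeff_sub_of_degree_lt hR
    have h1 := (P - R).tendsto_atTop_of_leadingCoeff_nonneg (by
      rw [hdeg, degree_eq_natDegree hP]; exact_mod_cast (lt_of_le_of_lt (Nat.zero_le k) hlt))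
      (by rw [hlc]; exact hpos.le)
    have h2 := (h1.comp tendsto_natCast_atTop_atTop).eventually_gt_atTop (0 : ℚ)
    obtain ⟨n, hn, hn'⟩ := (h.and h2).exists
    simp only [Function.comp_apply, eval_sub, R, eval_mul, eval_C, eval_pow, eval_add, eval_X] at hn'
    linarith [hn.2]

end Groth.Agent.HilbSam.Poly
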